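import Groth.Agent.JacFSLib.Adic
import Groth.Agent.CohenLib.GeomRegField
import Groth.Agent.CohenLib.RegularField
import Groth.Prelude.Def_Found
import Mathlib.RingTheory.Localization.BaseChange
import Mathlib.RingTheory.Localization.LocalizationLocalization
import Mathlib.RingTheory.Polynomial.Basic

/-! Formal smoothness and geometric regularity for algebras of finite type over a separable extension. -/

set_option autoImplicit false
universe u

open TensorProduct IsLocalRing

namespace JacFSLib

theorem formallySmooth_atPrime_of_adic {A B C : Type u} [CommRing A] [CommRing B] [CommRing C] [Algebra A B]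
    [Algebra B C] [Algebra A C] [IsScalarTower A B C] [IsNoetherianRing B] [Algebra.FormallySmooth A B]
    (hsurj : Function.Surjective (algebraMap B C)) (p : Ideal C) [p.IsPrime]
    (h : CAlgX.IsAdicFormallySmooth A (Localization.AtPrime p) (maximalIdeal (Localization.AtPrime p))) :
    Algebra.FormallySmooth A (Localization.AtPrime p) := by
  let Cp := Localization.AtPrime p
  let P := Localization.AtPrime (p.comap (algebraMap B C))
  let f₀ : P →+* Cp := Localization.localRingHom _ p (algebraMap B C) rfl
  let f : P →ₐ[A] Cp :=
    { f₀ with
      commutes' := fun a => by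
        show f₀ (algebraMap A P a) = _
        rw [IsScalarTower.algebraMap_apply A B P, Localization.localRingHom_to_map,
          IsScalarTower.algebraMap_apply A C Cp, IsScalarTower.algebraMap_apply A B C] }
  have hf : Function.Surjective f := fun z => by
    obtain ⟨c, s, rfl⟩ := IsLocalization.exists_mk'_eq p.primeCompl z
    obtain ⟨b, rfl⟩ := hsurj c
    obtain ⟨t, ht⟩ := hsurj (s : C)
    refine ⟨IsLocalization.mk' P b (⟨t, fun h => s.2 (ht ▸ h)⟩ : (p.comap (algebraMap B C)).primeCompl), ?_⟩
    show f₀ _ = _
    rw [Localization.localRingHom_mk']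
    congr
  exact formallySmooth_of_adic_of_surjective f hf h

variable {k : Type u} [Field k]

theorem isRegularRing_of_isLocalization {R S : Type u} [CommRing R] [IsRegularRing R] [CommRing S] [Algebra R S]
    (M : Submonoid R) [IsLocalization M S] : IsRegularRing S := by
  have : IsNoetherianRing S := IsLocalization.isNoetherianRing M S inferInstance
  refine isRegularRing_iff.2 fun P _ => ?_
  have : IsLocalization.AtPrime (Localization.AtPrime P) (P.comap (algebraMap R S)) :=
    IsLocalization.isLocalization_isLocalization_atPrime_isLocalization M _ P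
  exact IsRegularLocalRing.of_ringEquiv
    (IsLocalization.algEquiv (P.comap (algebraMap R S)).primeCompl
      (Localization.AtPrime (P.comap (algebraMap R S))) (Localization.AtPrime P)).toRingEquiv

theorem isGeometricallyRegular_of_isLocalization {C S : Type u} [CommRing C] [Algebra k C] [CommRing S]
    [Algebra k S] [Algebra C S] [IsScalarTower k C S] (M : Submonoid C) [IsLocalization M S]
    (h : CAlg.IsGeometricallyRegular k C) : CAlg.IsGeometricallyRegular k S := fun k' _ _ hk' => by
  have := h k' hk'
  let _ : Algebra (k' ⊗[k] C) (k' ⊗[k] S) :=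
    (Algebra.TensorProduct.map (AlgHom.id k k') (IsScalarTower.toAlgHom k C S)).toAlgebra
  have : IsScalarTower k' (k' ⊗[k] C) (k' ⊗[k] S) :=
    .of_algebraMap_eq <| by intro; simp [RingHom.algebraMap_toAlgebra]
  have := IsLocalization.tensorProduct_tensorProduct_right k k' M S
    (by ext; simp [RingHom.algebraMap_toAlgebra])
  exact isRegularRing_of_isLocalization (M.map (Algebra.TensorProduct.includeRight (R := k) (A := k')))

theorem isGeometricallyRegular_of_formallySmooth {C : Type u} [CommRing C] [Algebra k C] [IsNoetherianRing C]
    [Algebra.FormallySmooth k C] : CAlg.IsGeometricallyRegular k C := fun k' _ _ hk' => by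
  have : IsNoetherianRing (C ⊗[k] k') := IsNoetherianRing.of_finite C (C ⊗[k] k')
  have : IsNoetherianRing (k' ⊗[k] C) :=
    isNoetherianRing_of_ringEquiv _ (Algebra.TensorProduct.comm k C k').toRingEquiv
  exact CohenLib.isRegularRing_of_formallySmooth (k := k')

theorem adic_of_isGeometricallyRegular {A : Type u} [CommRing A] [IsLocalRing A] [IsNoetherianRing A] [Algebra k A]
    (h : CAlg.IsGeometricallyRegular k A) : CAlgX.IsAdicFormallySmooth k A (maximalIdeal A) := by
  obtain ⟨p, hp⟩ := ExpChar.exists k
  exact (CohenLib.liftsAdic_iff_pRadical p).2 fun k' _ _ hk' _ => h k' hk'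

end JacFSLib
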