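import Mathlib.RingTheory.Smooth.Basic
import Mathlib.RingTheory.Kaehler.TensorProduct
import Mathlib.RingTheory.Etale.Kaehler
import Mathlib.RingTheory.Localization.Module
import Mathlib.RingTheory.LocalRing.ResidueField.Ideal
import Mathlib.RingTheory.Nakayama
import Mathlib.LinearAlgebra.Matrix.ToLin
import Mathlib.LinearAlgebra.Matrix.NonsingularInverse
import Mathlib.Algebra.Module.Projective

/-! The Jacobian criterion of formal smoothness for quotients of formally smooth Noetherian algebras. -/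

set_option autoImplicit false
universe u

open TensorProduct KaehlerDifferential

namespace JacFSLib

variable {k₀ B : Type u} [CommRing k₀] [CommRing B] [Algebra k₀ B] [Algebra.FormallySmooth k₀ B]

local notation "Bq[" q "]" => Localization.AtPrime q

/-- Extension of linear functionals on differentials to the local ring. -/
theorem exists_functional (q : Ideal B) [q.IsPrime] (φ : KaehlerDifferential k₀ B →ₗ[B] B) :
    ∃ ψ : KaehlerDifferential k₀ Bq[q] →ₗ[Bq[q]] Bq[q],
      ∀ b : B, ψ (D k₀ Bq[q] (algebraMap B Bq[q] b)) = algebraMap B Bq[q] (φ (D k₀ B b)) := by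
  let ι := KaehlerDifferential.map k₀ k₀ B Bq[q]
  haveI : IsLocalizedModule q.primeCompl ι := inferInstance
  let g : KaehlerDifferential k₀ B →ₗ[B] Bq[q] := (Algebra.linearMap B Bq[q]).comp φ
  have hu : ∀ x : q.primeCompl, IsUnit (algebraMap B (Module.End B Bq[q]) x) :=
    IsLocalizedModule.map_units (Algebra.linearMap B Bq[q])
  let ψ₀ := IsLocalizedModule.lift q.primeCompl ι g hu
  let ψ : KaehlerDifferential k₀ Bq[q] →ₗ[Bq[q]] Bq[q] :=
    LinearMap.extendScalarsOfIsLocalization q.primeCompl Bq[q] ψ₀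
  refine ⟨ψ, fun b => ?_⟩
  have h := IsLocalizedModule.lift_apply q.primeCompl ι g hu (D k₀ B b)
  refine Eq.trans ?_ h
  show ψ₀ _ = ψ₀ _
  congr 1
  exact (KaehlerDifferential.map_D k₀ k₀ B Bq[q] b).symm

theorem formallySmooth_of_jacobian (q : Ideal B) [q.IsPrime] (C : Type u) [CommRing C] [Algebra k₀ C]
    [Algebra Bq[q] C] [IsScalarTower k₀ Bq[q] C] (hsurj : Function.Surjective (algebraMap Bq[q] C))
    (J : Ideal B) (hker : RingHom.ker (algebraMap Bq[q] C) = J.map (algebraMap B Bq[q]))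
    (m : ℕ) (f : Fin m → B) (φ : Fin m → (KaehlerDifferential k₀ B →ₗ[B] B)) (hfJ : ∀ i, f i ∈ J)
    (hgen : J.map (algebraMap B Bq[q]) = Ideal.span (Set.range fun i => algebraMap B Bq[q] (f i)))
    (hdet : Matrix.det (Matrix.of fun i j => φ j (D k₀ B (f i))) ∉ q) :
    Algebra.FormallySmooth k₀ C := by
  classical
  rw [Algebra.FormallySmooth.iff_split_injection (P := Bq[q]) hsurj]
  set K := RingHom.ker (algebraMap Bq[q] C) with hK
  choose ψ hψ using fun j => exists_functional q (φ j)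
  let M : Matrix (Fin m) (Fin m) Bq[q] := (Matrix.of fun i j => φ j (D k₀ B (f i))).map (algebraMap B Bq[q])
  have hM : IsUnit M.det := by
    show IsUnit (((algebraMap B Bq[q]).mapMatrix (Matrix.of fun i j => φ j (D k₀ B (f i)))).det)
    rw [← RingHom.map_det]
    exact IsLocalization.map_units Bq[q] (⟨_, hdet⟩ : q.primeCompl)
  let F : Fin m → K := fun i => ⟨algebraMap B Bq[q] (f i), hker ▸ Ideal.mem_map_of_mem _ (hfJ i)⟩
  let L : KaehlerDifferential k₀ Bq[q] →ₗ[Bq[q]] K.Cotangent :=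
    ∑ i, (∑ j, M⁻¹ j i • ψ j).smulRight (K.toCotangent (F i))
  have hL : ∀ i, L (D k₀ Bq[q] (algebraMap B Bq[q] (f i))) = K.toCotangent (F i) := fun i => by
    simp only [L, LinearMap.sum_apply, LinearMap.smulRight_apply, LinearMap.smul_apply, smul_eq_mul, hψ]
    have h1 : ∀ l, ∑ j, M⁻¹ j l * algebraMap B Bq[q] (φ j (D k₀ B (f i))) = if i = l then 1 else 0 := fun l => by
      rw [← Matrix.one_apply, ← Matrix.mul_nonsing_inv M hM, Matrix.mul_apply]
      exact Finset.sum_congr rfl fun j _ => mul_comm _ _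
    simp [h1]
  let e : (Bq[q] ⧸ K) ≃ₐ[Bq[q]] C :=
    AlgEquiv.ofRingEquiv (f := RingHom.quotientKerEquivOfSurjective hsurj) (fun r => rfl)
  let β : (Bq[q] ⧸ K) →ₗ[Bq[q]] KaehlerDifferential k₀ Bq[q] →ₗ[Bq[q]] K.Cotangent :=
    { toFun := fun c =>
        { toFun := fun ω => c • L ω
          map_add' := fun a b => by rw [map_add, smul_add]
          map_smul' := fun r a => by rw [map_smul, smul_comm]; rfl }
      map_add' := fun a b => LinearMap.ext fun ω => add_smul a b (L ω)
      map_smul' := fun r a => LinearMap.ext fun ω => smul_assoc r a (L ω) }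
  refine ⟨(TensorProduct.lift β).comp (TensorProduct.map e.symm.toLinearMap LinearMap.id), LinearMap.ext fun x => ?_⟩
  obtain ⟨⟨x, hx⟩, rfl⟩ := K.toCotangent_surjective x
  rw [LinearMap.id_apply]
  have hx' : x ∈ Ideal.span (Set.range fun i => algebraMap B Bq[q] (f i)) := hgen ▸ hker ▸ hx
  obtain ⟨c, hc⟩ := Ideal.mem_span_range_iff_exists_fun.1 hx'
  have hxF : (⟨x, hx⟩ : K) = ∑ i, c i • F i := Subtype.ext (by simp [F, hc])
  rw [hxF, map_sum, map_sum]
  refine Finset.sum_congr rfl fun i _ => ?_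
  rw [map_smul, map_smul]
  congr 1
  show (TensorProduct.lift β) ((TensorProduct.map e.symm.toLinearMap LinearMap.id)
    (kerCotangentToTensor k₀ Bq[q] C (Ideal.toCotangent _ (F i)))) = _
  rw [kerCotangentToTensor_toCotangent, TensorProduct.map_tmul, TensorProduct.lift.tmul]
  show (e.symm 1 : Bq[q] ⧸ K) • L _ = _
  rw [map_one, one_smul]
  exact hL i

theorem exists_min_generators [IsNoetherianRing B] (q : Ideal B) [q.IsPrime] (J : Ideal B) :
    ∃ (m : ℕ) (f : Fin m → B), (∀ i, f i ∈ J) ∧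
      J.map (algebraMap B Bq[q]) = Ideal.span (Set.range fun i => algebraMap B Bq[q] (f i)) ∧
      ∀ a : Fin m → Bq[q], ∑ i, a i * algebraMap B Bq[q] (f i) ∈
          IsLocalRing.maximalIdeal Bq[q] * J.map (algebraMap B Bq[q]) →
        ∀ i, a i ∈ IsLocalRing.maximalIdeal Bq[q] := by
  classical
  let P : ℕ → Prop := fun m => ∃ f : Fin m → B, (∀ i, f i ∈ J) ∧
    J.map (algebraMap B Bq[q]) = Ideal.span (Set.range fun i => algebraMap B Bq[q] (f i))
  have hex : ∃ m, P m := by
    obtain ⟨m, g, hg⟩ := Submodule.fg_iff_exists_fin_generating_family.1 (IsNoetherian.noetherian J)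
    refine ⟨m, g, fun i => hg ▸ Submodule.subset_span (Set.mem_range_self i), ?_⟩
    rw [← hg, ← Ideal.span, Ideal.map_span, ← Set.range_comp]
    rfl
  obtain ⟨f, hfJ, hgen⟩ := Nat.find_spec hex
  refine ⟨Nat.find hex, f, hfJ, hgen, fun a ha i => ?_⟩
  by_contra hi
  obtain ⟨v, hv⟩ := IsLocalRing.notMem_maximalIdeal.1 hi
  generalize hm : Nat.find hex = m at f a i v
  obtain _ | n := m
  · exact i.elim0
  refine Nat.find_min hex (m := n) (by omega) ⟨f ∘ i.succAbove, fun l => hfJ _, le_antisymm ?_ (Ideal.span_le.2 ?_)⟩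
  · let I' : Ideal Bq[q] := Ideal.span (Set.range fun l => algebraMap B Bq[q] (f (i.succAbove l)))
    show J.map (algebraMap B Bq[q]) ≤ I'
    refine Submodule.le_of_le_smul_of_le_jacobson_bot (I := IsLocalRing.maximalIdeal Bq[q])
      (Ideal.FG.map (IsNoetherian.noetherian J) _) (IsLocalRing.maximalIdeal_le_jacobson _) ?_
    conv_lhs => rw [hgen]
    refine Ideal.span_le.2 ?_
    rintro _ ⟨l, rfl⟩
    rcases Fin.eq_self_or_eq_succAbove i l with rfl | ⟨l', rfl⟩
    · rw [Fin.sum_univ_succAbove _ l, ← hv] at ha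
      have : algebraMap B Bq[q] (f l) =
          -(↑v⁻¹ * ∑ x, a (l.succAbove x) * algebraMap B Bq[q] (f (l.succAbove x))) +
            ↑v⁻¹ * (↑v * algebraMap B Bq[q] (f l) + ∑ x, a (l.succAbove x) * algebraMap B Bq[q] (f (l.succAbove x))) := by
        rw [mul_add, Units.inv_mul_cancel_left]; ring
      show algebraMap B Bq[q] (f l) ∈ I' ⊔ IsLocalRing.maximalIdeal Bq[q] • J.map (algebraMap B Bq[q])
      rw [this]
      refine Submodule.add_mem_sup (neg_mem (Ideal.mul_mem_left _ _ (sum_mem fun x _ =>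
        Ideal.mul_mem_left _ _ (Ideal.subset_span ⟨x, rfl⟩)))) ?_
      exact Ideal.mul_mem_left _ _ ha
    · exact Submodule.mem_sup_left (Ideal.subset_span ⟨l', rfl⟩)
  · rintro _ ⟨l, rfl⟩
    exact Ideal.mem_map_of_mem _ (hfJ _)

theorem exists_jacobian [IsNoetherianRing B] (q : Ideal B) [q.IsPrime] (C : Type u) [CommRing C] [Algebra k₀ C]
    [Algebra Bq[q] C] [IsScalarTower k₀ Bq[q] C] (hsurj : Function.Surjective (algebraMap Bq[q] C))
    (J : Ideal B) (hJq : J ≤ q) (hker : RingHom.ker (algebraMap Bq[q] C) = J.map (algebraMap B Bq[q]))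
    [Algebra.FormallySmooth k₀ C] :
    ∃ (m : ℕ) (f : Fin m → B) (φ : Fin m → (KaehlerDifferential k₀ B →ₗ[B] B)), (∀ i, f i ∈ J) ∧
      J.map (algebraMap B Bq[q]) = Ideal.span (Set.range fun i => algebraMap B Bq[q] (f i)) ∧
      Matrix.det (Matrix.of fun i j => φ j (D k₀ B (f i))) ∉ q := by
  classical
  obtain ⟨m, f, hfJ, hgen, hmin⟩ := exists_min_generators q J
  set K := RingHom.ker (algebraMap Bq[q] C) with hK
  obtain ⟨l, hl⟩ := (Algebra.FormallySmooth.iff_split_injection (P := Bq[q]) hsurj).1 ‹Algebra.FormallySmooth k₀ C›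
  let 𝔪 := IsLocalRing.maximalIdeal Bq[q]
  obtain ⟨s, hs⟩ := Module.projective_def.1 (inferInstance : Module.Projective B (KaehlerDifferential k₀ B))
  let T : Finset (KaehlerDifferential k₀ B) := Finset.univ.biUnion fun i => (s (D k₀ B (f i))).support
  let κ := q.ResidueField
  let R₀ : Matrix (Fin m) T κ := Matrix.of fun i x => algebraMap B κ (s (D k₀ B (f i)) x.1)
  have hindep : ∀ a : Fin m → κ, Matrix.vecMul a R₀ = 0 → a = 0 := fun a ha => by
    choose a' ha' using fun i => IsLocalRing.residue_surjective (R := Bq[q]) (a i)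
    let c : T → Bq[q] := fun x => ∑ i, a' i * algebraMap B Bq[q] (s (D k₀ B (f i)) x.1)
    have hc : ∀ x, c x ∈ 𝔪 := fun x => by
      rw [← IsLocalRing.residue_eq_zero_iff, map_sum]
      refine Eq.trans ?_ (congrFun ha x)
      simp only [map_mul, ha', Matrix.vecMul, dotProduct, R₀, Matrix.of_apply]
      rfl
    have hD : ∀ i, D k₀ Bq[q] (algebraMap B Bq[q] (f i)) =
        ∑ x : T, algebraMap B Bq[q] (s (D k₀ B (f i)) x.1) • KaehlerDifferential.map k₀ k₀ B Bq[q] x.1 := fun i => by
      conv_lhs => rw [← KaehlerDifferential.map_D k₀ k₀ B Bq[q] (f i), ← hs (D k₀ B (f i))]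
      rw [Finsupp.linearCombination_apply, Finsupp.sum_of_support_subset (s (D k₀ B (f i)))
        (fun z (hz : z ∈ (s (D k₀ B (f i))).support) => (Finset.mem_biUnion.2 ⟨i, Finset.mem_univ i, hz⟩ : z ∈ T)) _
        (fun z _ => zero_smul B (id z)), map_sum, ← Finset.sum_coe_sort]
      exact Finset.sum_congr rfl fun x _ => by rw [map_smul, algebraMap_smul]; rfl
    let F : Fin m → K := fun i => ⟨algebraMap B Bq[q] (f i), hker ▸ Ideal.mem_map_of_mem _ (hfJ i)⟩
    have h1 : ∑ i, a' i • K.toCotangent (F i) = ∑ x : T, c x • l (1 ⊗ₜ KaehlerDifferential.map k₀ k₀ B Bq[q] x.1) := by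
      have e1 : ∀ i, K.toCotangent (F i) =
          ∑ x : T, algebraMap B Bq[q] (s (D k₀ B (f i)) x.1) • l (1 ⊗ₜ KaehlerDifferential.map k₀ k₀ B Bq[q] x.1) := fun i => by
        have h := LinearMap.congr_fun hl (K.toCotangent (F i))
        rw [LinearMap.comp_apply, kerCotangentToTensor_toCotangent, LinearMap.id_apply] at h
        rw [← h, hD, TensorProduct.tmul_sum, map_sum]
        exact Finset.sum_congr rfl fun x _ => (congrArg l (TensorProduct.tmul_smul _ _ _)).trans (map_smul l _ _)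
      simp only [e1, Finset.smul_sum, c, Finset.sum_smul, smul_smul]
      rw [Finset.sum_comm]
    choose w hw using fun x : T => K.toCotangent_surjective (l (1 ⊗ₜ KaehlerDifferential.map k₀ k₀ B Bq[q] x.1))
    have h2 : K.toCotangent (∑ i, a' i • F i) = K.toCotangent (∑ x : T, c x • w x) := by
      simpa only [map_sum, map_smul, hw] using h1
    rw [Ideal.toCotangent_eq] at h2
    have hKle : K ≤ 𝔪 := by
      rw [hker, Ideal.map_le_iff_le_comap, show (IsLocalRing.maximalIdeal Bq[q]).comap (algebraMap B Bq[q]) = q from IsLocalization.AtPrime.comap_maximalIdeal Bq[q] q]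
      exact hJq
    have h3 : ∑ i, a' i * algebraMap B Bq[q] (f i) ∈ 𝔪 * J.map (algebraMap B Bq[q]) := by
      have h4 : K ^ 2 ≤ 𝔪 * J.map (algebraMap B Bq[q]) := by
        rw [pow_two, ← hker]; exact Ideal.mul_mono_left hKle
      have h5 : ((∑ x : T, c x • w x : K) : Bq[q]) ∈ 𝔪 * J.map (algebraMap B Bq[q]) := by
        push_cast
        exact sum_mem fun x _ => Ideal.mul_mem_mul (hc x) (hker ▸ (w x).2)
      have h6 := add_mem (h4 h2) h5
      push_cast at h6
      simpa [F, smul_eq_mul] using h6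
    funext i
    rw [Pi.zero_apply, ← ha' i]
    exact (IsLocalRing.residue_eq_zero_iff _).2 (hmin a' h3 i)
  have hinj : LinearMap.ker (Matrix.toLinearMapRight' (m := Fin m) (n := T) R₀) = ⊥ :=
    LinearMap.ker_eq_bot'.2 fun a ha => hindep a ha
  obtain ⟨g, hg⟩ := LinearMap.exists_leftInverse_of_injective _ hinj
  let N : Matrix T (Fin m) κ := Matrix.toLinearMapRight'.symm g
  have hRN : R₀ * N = 1 := by
    apply Matrix.toLinearMapRight'.injective
    rw [Matrix.toLinearMapRight'_mul, Matrix.toLinearMapRight'_one, LinearEquiv.apply_symm_apply, hg]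
  choose n' d hn' using fun p : T × Fin m => IsLocalization.exists_mk'_eq (M := nonZeroDivisors (B ⧸ q))
    (S := κ) (N p.1 p.2)
  choose n₀ hn₀ using fun p => Ideal.Quotient.mk_surjective (n' p)
  choose d₀ hd₀ using fun p => Ideal.Quotient.mk_surjective (d p : B ⧸ q)
  have hd₀q : ∀ p, d₀ p ∉ q := fun p h => nonZeroDivisors.ne_zero (d p).2 (by
    rw [← hd₀ p]; exact Ideal.Quotient.eq_zero_iff_mem.2 h)
  let S₀ : B := ∏ p, d₀ p
  let α : T × Fin m → B := fun p => n₀ p * ∏ p' ∈ Finset.univ.erase p, d₀ p'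
  have hα : ∀ p, algebraMap B κ (α p) = algebraMap B κ S₀ * N p.1 p.2 := fun p => by
    have h1 : algebraMap B κ (n₀ p) = N p.1 p.2 * algebraMap B κ (d₀ p) := by
      rw [IsScalarTower.algebraMap_apply B (B ⧸ q) κ, IsScalarTower.algebraMap_apply B (B ⧸ q) κ (d₀ p),
        Ideal.Quotient.algebraMap_eq, hn₀, ← hn' p]
      rw [show Ideal.Quotient.mk q (d₀ p) = (d p : B ⧸ q) from hd₀ p, IsLocalization.mk'_spec]
    simp only [α, S₀, map_mul, h1]
    rw [← Finset.mul_prod_erase Finset.univ d₀ (Finset.mem_univ p), map_mul]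
    ring
  let φ : Fin m → (KaehlerDifferential k₀ B →ₗ[B] B) := fun j => ∑ x : T, α (x, j) • ((Finsupp.lapply x.1).comp s)
  refine ⟨m, f, φ, hfJ, hgen, ?_⟩
  rw [← Ideal.algebraMap_residueField_eq_zero (I := q), RingHom.map_det,
    show (algebraMap B κ).mapMatrix (Matrix.of fun i j => φ j (D k₀ B (f i))) = algebraMap B κ S₀ • (1 : Matrix (Fin m) (Fin m) κ) by
      rw [← hRN]
      ext i j
      simp only [RingHom.mapMatrix_apply, Matrix.map_apply, Matrix.of_apply, φ, LinearMap.sum_apply,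
        LinearMap.smul_apply, LinearMap.comp_apply, Finsupp.lapply_apply, smul_eq_mul, map_sum, map_mul, hα,
        Matrix.smul_apply, Matrix.mul_apply, Finset.mul_sum, R₀]
      exact Finset.sum_congr rfl fun x _ => by ring,
    Matrix.det_smul, Matrix.det_one, mul_one]
  refine pow_ne_zero _ ?_
  rw [Ne, Ideal.algebraMap_residueField_eq_zero]
  exact fun h => (inferInstance : q.IsPrime).prod_mem_iff.1 h |>.elim fun p hp => hd₀q p hp.2

end JacFSLib
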