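import Groth.Agent.JacFSLib.Criterion
import Groth.Agent.CohenLib.FSJacobian
import Groth.Prelude.Def_CAlgX
import Groth.Prelude.Def_EGA41

/-! Adic formal smoothness of a Noetherian local quotient implies discrete formal smoothness. -/

set_option autoImplicit false
universe u

open TensorProduct KaehlerDifferential IsLocalRing

namespace JacFSLib

variable {A B : Type u} [CommRing A] [CommRing B] [Algebra A B] [IsNoetherianRing B] [IsLocalRing B]
  [Algebra.FormallySmooth A B]

theorem formallySmooth_quotient_of_adic (K : Ideal B) [IsLocalRing (B ⧸ K)]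
    (h : CAlgX.IsAdicFormallySmooth A (B ⧸ K) (maximalIdeal (B ⧸ K))) :
    Algebra.FormallySmooth A (B ⧸ K) := by
  have : Module.Finite B (RingHom.ker (algebraMap B (B ⧸ K))).Cotangent :=
    have : Module.Finite B (RingHom.ker (algebraMap B (B ⧸ K))) := Module.Finite.of_fg (IsNoetherian.noetherian _)
    Module.Finite.of_surjective _ (Ideal.toCotangent_surjective _)
  refine formallySmooth_of_forall_maximal Ideal.Quotient.mk_surjective fun m hm => ?_
  obtain rfl : m = maximalIdeal (B ⧸ K) := IsLocalRing.eq_maximalIdeal hm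
  let C := B ⧸ K
  let Q := maximalIdeal C
  have hI : (maximalIdeal B).map (Ideal.Quotient.mk K) = Q :=
    IsLocalRing.map_maximalIdeal_of_surjective _ Ideal.Quotient.mk_surjective
  obtain ⟨D, hD⟩ := CohenLib.exists_split_derivation (maximalIdeal B) K Q ⟨1, by rw [pow_one, hI]⟩ (by rw [hI]; exact h)
  let κ := Q.ResidueField
  let J' := RingHom.ker (algebraMap B C)
  let Ψ : (C ⧸ Q) ⊗[B] J'.Cotangent →ₗ[B] κ ⊗[B] J'.Cotangent :=
    LinearMap.rTensor J'.Cotangent (IsScalarTower.toAlgHom B (C ⧸ Q) κ).toLinearMap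
  obtain ⟨g, hg⟩ := (CohenLib.split_conormal_iff (A := A) (B := B) (C := C) κ).2
    ⟨Ψ.compDer D, fun j => by
      show Ψ (D j) = _
      rw [hD j]
      show (algebraMap (C ⧸ Q) κ) 1 ⊗ₜ[B] _ = _
      rw [map_one]; rfl⟩
  exact Function.LeftInverse.injective (g := g) fun x => LinearMap.congr_fun hg x

theorem formallySmooth_of_adic_of_surjective {C : Type u} [CommRing C] [IsLocalRing C] [Algebra A C]
    (f : B →ₐ[A] C) (hf : Function.Surjective f)
    (h : CAlgX.IsAdicFormallySmooth A C (maximalIdeal C)) : Algebra.FormallySmooth A C := by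
  let K := RingHom.ker f
  let e : (B ⧸ K) ≃ₐ[A] C := Ideal.quotientKerAlgEquivOfSurjective hf
  have : IsLocalRing (B ⧸ K) := e.toRingEquiv.symm.isLocalRing
  have h' : CAlgX.IsAdicFormallySmooth A (B ⧸ K) (maximalIdeal (B ⧸ K)) := by
    intro T _ _ J hJ ψ ⟨k, hk⟩
    obtain ⟨χ, hχ⟩ := h T J hJ (ψ.comp e.symm.toAlgHom) ⟨k, fun x hx => hk _ (by
      have h1 : (maximalIdeal C).map e.symm.toAlgHom.toRingHom = maximalIdeal (B ⧸ K) :=
        IsLocalRing.map_maximalIdeal_of_surjective _ e.symm.surjective
      rw [← h1, ← Ideal.map_pow]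
      exact Ideal.mem_map_of_mem _ hx)⟩
    exact ⟨χ.comp e.toAlgHom, AlgHom.ext fun x => by
      have h2 := AlgHom.congr_fun hχ (e x)
      simpa using h2⟩
  have := formallySmooth_quotient_of_adic K h'
  exact Algebra.FormallySmooth.of_equiv e

end JacFSLib

namespace JacFSLib

/-- For local algebras essentially of finite type over a Noetherian ring, adic formal smoothness
implies formal smoothness. -/
theorem formallySmooth_of_adic_essFiniteType {R A : Type u} [CommRing R] [IsNoetherianRing R] [CommRing A]
    [IsLocalRing A] [Algebra R A] [Algebra.EssFiniteType R A]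
    (h : CAlgX.IsAdicFormallySmooth R A (maximalIdeal A)) : Algebra.FormallySmooth R A := by
  classical
  let s := Algebra.EssFiniteType.finset R A
  let P := MvPolynomial (↥s) R
  let φ : P →ₐ[R] A := MvPolynomial.aeval fun i : ↥s => (i : A)
  let q : Ideal P := (maximalIdeal A).comap φ
  have : q.IsPrime := Ideal.comap_isPrime φ (maximalIdeal A)
  have hu : ∀ y : q.primeCompl, IsUnit (φ y) := fun y => by
    have hy : φ y ∉ maximalIdeal A := y.2
    exact IsLocalRing.notMem_maximalIdeal.1 hy
  let f : Localization.AtPrime q →ₐ[R] A := IsLocalization.liftAlgHom (M := q.primeCompl) (f := φ) hu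
  have hf : Function.Surjective f := fun a => by
    have hrange : φ.range = Algebra.adjoin R (s : Set A) := by
      rw [← Algebra.adjoin_range_eq_range_aeval, Subtype.range_coe_subtype]
      rfl
    obtain ⟨⟨⟨x, hx⟩, ⟨t, ht⟩, ht'⟩, hxt⟩ := IsLocalization.surj (Algebra.EssFiniteType.submonoid R A) a
    obtain ⟨x', rfl⟩ : x ∈ φ.range := hrange ▸ hx
    obtain ⟨t', rfl⟩ : t ∈ φ.range := hrange ▸ ht
    have htu : IsUnit (φ t') := ht'
    have htq : t' ∈ q.primeCompl := fun h => IsLocalRing.notMem_maximalIdeal.2 htu h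
    refine ⟨IsLocalization.mk' _ x' (⟨t', htq⟩ : q.primeCompl), ?_⟩
    refine htu.mul_left_injective ?_
    show f _ * φ t' = a * φ t'
    rw [show φ t' = f (algebraMap P _ t') from (IsLocalization.lift_eq hu t').symm, ← map_mul,
      IsLocalization.mk'_spec (Localization.AtPrime q) x' (⟨t', htq⟩ : q.primeCompl)]
    show IsLocalization.lift hu _ = a * IsLocalization.lift hu _
    rw [IsLocalization.lift_eq, IsLocalization.lift_eq]
    exact hxt.symm
  have : Algebra.FormallySmooth R (Localization.AtPrime q) := inferInstance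
  exact formallySmooth_of_adic_of_surjective f hf h

end JacFSLib
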