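import Mathlib.RingTheory.Smooth.Basic
import Mathlib.RingTheory.Etale.Kaehler
import Mathlib.RingTheory.LocalRing.Module
import Mathlib.RingTheory.LocalRing.ResidueField.Ideal
import Mathlib.RingTheory.Support
import Mathlib.RingTheory.Finiteness.Projective
import Mathlib.LinearAlgebra.Matrix.ToLin
import Mathlib.LinearAlgebra.Matrix.NonsingularInverse

/-! The Jacobian criterion of formal smoothness for quotients of formally smooth algebras with
finitely generated conormal module. -/

set_option autoImplicit false
universe u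

open TensorProduct KaehlerDifferential

namespace JacFSLib

section Retraction

variable {C M N : Type u} [CommRing C] [AddCommGroup M] [Module C M] [AddCommGroup N] [Module C N]

/-- A map to a projective module which is injective on a residue field is split injective
after inverting one element. -/
theorem exists_retraction_smul [Module.Finite C M] [Module.Projective C N] (l : M →ₗ[C] N) (p : Ideal C)
    [p.IsPrime] (h : Function.Injective (l.lTensor p.ResidueField)) :
    ∃ g ∉ p, ∃ r : N →ₗ[C] M, r ∘ₗ l = g • LinearMap.id := by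
  classical
  let κ := p.ResidueField
  obtain ⟨b, hb, hspan, hli⟩ := exists_linearIndependent κ (Set.range fun x : M => (1 : κ) ⊗ₜ[C] x)
  have hfin : b.Finite := hli.setFinite
  let _ : Fintype b := hfin.fintype
  choose f hf using fun i : b => hb i.2
  -- a uniform multiple of the module lies in the span of the lifts
  have htop : Submodule.span κ b = ⊤ := by
    rw [hspan, eq_top_iff]
    rintro x -
    induction x using TensorProduct.induction_on with
    | zero => exact zero_mem _
    | add x y hx hy => exact add_mem hx hy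
    | tmul a m =>
      rw [show a ⊗ₜ[C] m = a • ((1 : κ) ⊗ₜ[C] m) by rw [TensorProduct.smul_tmul', smul_eq_mul, mul_one]]
      exact Submodule.smul_mem _ _ (Submodule.subset_span ⟨m, rfl⟩)
  let F := Submodule.span C (Set.range f)
  have hQ : (⟨p, inferInstance⟩ : PrimeSpectrum C) ∉ Module.support C (M ⧸ F) := by
    rw [Module.mem_support_iff_nontrivial_residueField_tensorProduct, not_nontrivial_iff_subsingleton,
      subsingleton_iff_forall_eq 0]
    intro y
    obtain ⟨x, rfl⟩ := LinearMap.lTensor_surjective κ F.mkQ_surjective y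
    have hx : x ∈ Submodule.span κ b := htop ▸ Submodule.mem_top
    induction hx using Submodule.span_induction with
    | mem z hz =>
      rw [show z = (1 : κ) ⊗ₜ[C] f ⟨z, hz⟩ from (hf ⟨z, hz⟩).symm, LinearMap.lTensor_tmul, Submodule.mkQ_apply,
        (Submodule.Quotient.mk_eq_zero F).2 (Submodule.subset_span (Set.mem_range_self _)), tmul_zero]
    | zero => exact map_zero _
    | add z w _ _ hz hw => rw [map_add, hz, hw, add_zero]
    | smul a z _ hz =>
      show (F.mkQ.baseChange κ) (a • z) = 0
      rw [map_smul]
      exact (congrArg (a • ·) hz).trans (smul_zero a)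
  rw [Module.notMem_support_iff'] at hQ
  obtain ⟨gens, hgens⟩ := (‹Module.Finite C M›).fg_top
  choose t htp ht using fun m : gens => hQ (F.mkQ m)
  let t₀ : C := ∏ m : gens, t m
  have ht₀ : t₀ ∉ p := fun h => ((inferInstance : p.IsPrime).prod_mem_iff.1 h).elim fun m hm => htp m hm.2
  have hmem : ∀ x : M, t₀ • x ∈ F := fun x => by
    have hx : x ∈ Submodule.span C (gens : Set M) := hgens.symm ▸ Submodule.mem_top
    induction hx using Submodule.span_induction with
    | mem z hz =>
      rw [show t₀ = (∏ m ∈ Finset.univ.erase (⟨z, hz⟩ : gens), t m) * t ⟨z, hz⟩ from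
        (Finset.prod_erase_mul _ _ (Finset.mem_univ _)).symm, mul_smul]
      exact F.smul_mem _ ((Submodule.Quotient.mk_eq_zero F).1 (ht ⟨z, hz⟩))
    | zero => rw [smul_zero]; exact zero_mem _
    | add z w _ _ hz hw => rw [smul_add]; exact add_mem hz hw
    | smul a z _ hz => rw [smul_comm]; exact F.smul_mem _ hz
  -- functionals detecting the lifts
  obtain ⟨s, hs⟩ := Module.projective_def.1 (inferInstance : Module.Projective C N)
  let T : Finset N := Finset.univ.biUnion fun i => (s (l (f i))).support
  let R₀ : Matrix b T κ := Matrix.of fun i x => algebraMap C κ (s (l (f i)) x.1)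
  have hindep : ∀ a : b → κ, Matrix.vecMul a R₀ = 0 → a = 0 := fun a ha => by
    have hli' : LinearIndependent κ (fun i : b => (i : κ ⊗[C] M)) := hli
    funext j
    refine Fintype.linearIndependent_iff.1 hli' a (h ?_) j
    rw [map_zero, map_sum]
    have e1 : ∀ i : b, l.lTensor κ (a i • (i : κ ⊗[C] M)) =
        ∑ x : T, (a i * R₀ i x) ⊗ₜ[C] (x : N) := fun i => by
      rw [← hf i, TensorProduct.smul_tmul', smul_eq_mul, mul_one, LinearMap.lTensor_tmul]
      conv_lhs => rw [← hs (l (f i))]
      rw [Finsupp.linearCombination_apply, Finsupp.sum_of_support_subset (s (l (f i)))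
        (fun z (hz : z ∈ (s (l (f i))).support) => (Finset.mem_biUnion.2 ⟨i, Finset.mem_univ i, hz⟩ : z ∈ T)) _
        (fun z _ => zero_smul C (id z)), tmul_sum, ← Finset.sum_coe_sort]
      exact Finset.sum_congr rfl fun x _ => by
        rw [← smul_tmul, Algebra.smul_def, mul_comm]; rfl
    rw [Finset.sum_congr rfl fun i _ => e1 i, Finset.sum_comm]
    refine Finset.sum_eq_zero fun x _ => ?_
    rw [← sum_tmul, show ∑ i, a i * R₀ i x = 0 from congrFun ha x, zero_tmul]
  have hinj : LinearMap.ker (Matrix.toLinearMapRight' (m := b) (n := T) R₀) = ⊥ :=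
    LinearMap.ker_eq_bot'.2 fun a ha => hindep a ha
  obtain ⟨g₀, hg₀⟩ := LinearMap.exists_leftInverse_of_injective _ hinj
  let V : Matrix T b κ := Matrix.toLinearMapRight'.symm g₀
  have hRV : R₀ * V = 1 := by
    apply Matrix.toLinearMapRight'.injective
    rw [Matrix.toLinearMapRight'_mul, Matrix.toLinearMapRight'_one, LinearEquiv.apply_symm_apply, hg₀]
  choose n' d hn' using fun q : T × b => IsLocalization.exists_mk'_eq (M := nonZeroDivisors (C ⧸ p))
    (S := κ) (V q.1 q.2)
  choose n₀ hn₀ using fun q => Ideal.Quotient.mk_surjective (n' q)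
  choose d₀ hd₀ using fun q => Ideal.Quotient.mk_surjective (d q : C ⧸ p)
  have hd₀p : ∀ q, d₀ q ∉ p := fun q h => nonZeroDivisors.ne_zero (d q).2 (by
    rw [← hd₀ q]; exact Ideal.Quotient.eq_zero_iff_mem.2 h)
  let S₀ : C := ∏ q, d₀ q
  let α : T × b → C := fun q => n₀ q * ∏ q' ∈ Finset.univ.erase q, d₀ q'
  have hα : ∀ q, algebraMap C κ (α q) = algebraMap C κ S₀ * V q.1 q.2 := fun q => by
    have h1 : algebraMap C κ (n₀ q) = V q.1 q.2 * algebraMap C κ (d₀ q) := by
      rw [IsScalarTower.algebraMap_apply C (C ⧸ p) κ, IsScalarTower.algebraMap_apply C (C ⧸ p) κ (d₀ q),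
        Ideal.Quotient.algebraMap_eq, hn₀, ← hn' q]
      rw [show Ideal.Quotient.mk p (d₀ q) = (d q : C ⧸ p) from hd₀ q, IsLocalization.mk'_spec]
    simp only [α, S₀, map_mul, h1]
    rw [← Finset.mul_prod_erase Finset.univ d₀ (Finset.mem_univ q), map_mul]
    ring
  let φ : b → (N →ₗ[C] C) := fun j => ∑ x : T, α (x, j) • ((Finsupp.lapply x.1).comp s)
  let Mt : Matrix b b C := Matrix.of fun i j => φ j (l (f i))
  have hdet : Mt.det ∉ p := by
    rw [← Ideal.algebraMap_residueField_eq_zero (I := p), RingHom.map_det,
      show (algebraMap C κ).mapMatrix Mt = algebraMap C κ S₀ • (1 : Matrix b b κ) by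
        rw [← hRV]
        ext i j
        simp only [RingHom.mapMatrix_apply, Matrix.map_apply, Mt, Matrix.of_apply, φ, LinearMap.sum_apply,
          LinearMap.smul_apply, LinearMap.comp_apply, Finsupp.lapply_apply, smul_eq_mul, map_sum, map_mul, hα,
          Matrix.smul_apply, Matrix.mul_apply, Finset.mul_sum, R₀]
        exact Finset.sum_congr rfl fun x _ => by ring,
      Matrix.det_smul, Matrix.det_one, mul_one]
    refine pow_ne_zero _ ?_
    rw [Ne, Ideal.algebraMap_residueField_eq_zero]
    exact fun h => (inferInstance : p.IsPrime).prod_mem_iff.1 h |>.elim fun q hq => hd₀p q hq.2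
  let r₀ : N →ₗ[C] M := ∑ i, (∑ j, Mt.adjugate j i • φ j).smulRight (f i)
  have hr₀ : ∀ i, r₀ (l (f i)) = Mt.det • f i := fun i => by
    simp only [r₀, LinearMap.sum_apply, LinearMap.smulRight_apply, LinearMap.smul_apply, smul_eq_mul]
    have h1 : ∀ k, ∑ j, Mt.adjugate j k * φ j (l (f i)) = if i = k then Mt.det else 0 := fun k => by
      have := congrFun (congrFun (Matrix.mul_adjugate Mt) i) k
      rw [Matrix.mul_apply, Matrix.smul_apply, Matrix.one_apply, smul_eq_mul, mul_ite, mul_one, mul_zero] at this
      rw [← this]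
      exact Finset.sum_congr rfl fun j _ => mul_comm _ _
    simp [h1]
  refine ⟨t₀ * Mt.det, fun h => ((inferInstance : p.IsPrime).mem_or_mem h).elim ht₀ hdet, t₀ • r₀, ?_⟩
  have hF : F ≤ LinearMap.eqLocus (r₀ ∘ₗ l) (Mt.det • LinearMap.id) :=
    Submodule.span_le.2 (by rintro _ ⟨i, rfl⟩; exact hr₀ i)
  refine LinearMap.ext fun x => ?_
  simp only [LinearMap.smul_comp, LinearMap.smul_apply, LinearMap.id_apply]
  have h1 := hF (hmem x)
  simp only [LinearMap.mem_eqLocus, LinearMap.smul_apply, LinearMap.id_apply, map_smul] at h1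
  rw [h1, mul_smul, smul_comm]

end Retraction

section Smooth

open Algebra IsLocalization

variable {A B C : Type u} [CommRing A] [CommRing B] [CommRing C] [Algebra A B] [Algebra B C] [Algebra A C]
  [IsScalarTower A B C]

/-- A surjection as an extension. -/
noncomputable abbrev extOfSurjective (hsurj : Function.Surjective (algebraMap B C)) : Extension.{u} A C :=
  { Ring := B
    σ := Function.surjInv hsurj
    algebraMap_σ := Function.surjInv_eq hsurj }

theorem finite_cotangent (hsurj : Function.Surjective (algebraMap B C))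
    [Module.Finite B (RingHom.ker (algebraMap B C)).Cotangent] :
    Module.Finite C (extOfSurjective (A := A) hsurj).Cotangent := by
  let P := extOfSurjective (A := A) hsurj
  have : Module.Finite P.Ring P.ker.Cotangent := ‹Module.Finite B (RingHom.ker (algebraMap B C)).Cotangent›
  have : Module.Finite P.Ring P.Cotangent := Module.Finite.equiv P.cotangentEquivCotangentKer.symm
  exact Module.Finite.of_restrictScalars_finite P.Ring C P.Cotangent

/-- Injectivity on a residue field does not depend on tensoring over `B` or over `C`. -/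
theorem injective_lTensor_iff (hsurj : Function.Surjective (algebraMap B C)) (p : Ideal C) [p.IsPrime] :
    Function.Injective ((kerCotangentToTensor A B C).lTensor p.ResidueField) ↔
      Function.Injective ((extOfSurjective (A := A) hsurj).cotangentComplex.lTensor p.ResidueField) := by
  let P := extOfSurjective (A := A) hsurj
  let κ := p.ResidueField
  have : TensorProduct.CompatibleSMul P.Ring C κ P.Cotangent :=
    TensorProduct.CompatibleSMul.of_algebraMap_surjective _ _ P.algebraMap_surjective
  have : TensorProduct.CompatibleSMul P.Ring C κ P.CotangentSpace :=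
    TensorProduct.CompatibleSMul.of_algebraMap_surjective _ _ P.algebraMap_surjective
  let e₁ : κ ⊗[P.Ring] P.ker.Cotangent ≃ₗ[P.Ring] κ ⊗[C] P.Cotangent :=
    P.cotangentEquivCotangentKer.symm.lTensor κ ≪≫ₗ
      (TensorProduct.equivOfCompatibleSMul C P.Ring P.Ring κ P.Cotangent)
  let e₂ : κ ⊗[P.Ring] P.CotangentSpace ≃ₗ[P.Ring] κ ⊗[C] P.CotangentSpace :=
      (TensorProduct.equivOfCompatibleSMul C P.Ring P.Ring κ P.CotangentSpace)
  have h : ∀ x, P.cotangentComplex.lTensor κ (e₁ x) =
      e₂ ((kerCotangentToTensor A P.Ring C).lTensor κ x) := fun x => by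
    induction x using TensorProduct.induction_on with
    | zero => simp
    | add x y hx hy => simp only [map_add, hx, hy]
    | tmul a m => rfl
  have h' : ⇑(P.cotangentComplex.lTensor κ) ∘ ⇑e₁ = ⇑e₂ ∘ ⇑((kerCotangentToTensor A P.Ring C).lTensor κ) :=
    funext h
  show Function.Injective ((kerCotangentToTensor A P.Ring C).lTensor κ) ↔
    Function.Injective (P.cotangentComplex.lTensor κ)
  rw [← e₂.injective.of_comp_iff, ← h', Function.Injective.of_comp_iff' _ e₁.bijective]

variable (S : Type u) [CommRing S] [Algebra C S] [Algebra A S] [IsScalarTower A C S] (M : Submonoid C)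
  [IsLocalization M S]

include M in
/-- A retraction up to a factor invertible in a localisation gives formal smoothness there. -/
theorem formallySmooth_of_retraction (P : Extension.{u} A C) [FormallySmooth A P.Ring]
    (g : C) (hg : IsUnit (algebraMap C S g)) (r : P.CotangentSpace →ₗ[C] P.Cotangent)
    (hr : r ∘ₗ P.cotangentComplex = g • LinearMap.id) : FormallySmooth A S := by
  have hproj : Module.Projective C P.CotangentSpace := inferInstance
  refine ⟨?_, ?_⟩
  · -- projectivity of the differentials
    let π := P.toKaehler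
    let τ : P.CotangentSpace →ₗ[C] P.CotangentSpace := g • LinearMap.id - P.cotangentComplex ∘ₗ r
    have hτ : LinearMap.ker π ≤ LinearMap.ker τ := fun y hy => by
      obtain ⟨x, rfl⟩ := (P.exact_cotangentComplex_toKaehler y).1 hy
      show g • P.cotangentComplex x - P.cotangentComplex (r (P.cotangentComplex x)) = 0
      rw [show r (P.cotangentComplex x) = g • x from LinearMap.congr_fun hr x, map_smul, sub_self]
    let σ : Ω[C⁄A] →ₗ[C] P.CotangentSpace := ((LinearMap.ker π).liftQ τ hτ).comp
      (LinearMap.quotKerEquivOfSurjective π P.toKaehler_surjective).symm.toLinearMap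
    have hσ : ∀ y, π (σ y) = g • y := fun y => by
      obtain ⟨y, rfl⟩ := P.toKaehler_surjective y
      rw [LinearMap.comp_apply, LinearEquiv.coe_coe, LinearMap.quotKerEquivOfSurjective_symm_apply,
        Submodule.liftQ_apply]
      show π (g • y - P.cotangentComplex (r y)) = g • π y
      rw [map_sub, map_smul, P.exact_cotangentComplex_toKaehler.apply_apply_eq_zero, sub_zero]
    let ι : Ω[C⁄A] →ₗ[C] Ω[S⁄A] := KaehlerDifferential.map A A C S
    have : IsLocalizedModule M ι := KaehlerDifferential.isLocalizedModule_map A C S M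
    let T := S ⊗[C] P.CotangentSpace
    have hu : ∀ x : M, IsUnit (algebraMap C (Module.End C T) x) := fun x => by
      rw [← (Algebra.lsmul C C T : S →ₐ[C] Module.End C T).commutes]
      exact (IsLocalization.map_units S x).map _
    let j₀ : Ω[C⁄A] →ₗ[C] T := (TensorProduct.mk C S P.CotangentSpace 1).comp σ
    let i₀ : Ω[S⁄A] →ₗ[C] T := IsLocalizedModule.lift M ι j₀ hu
    let i : Ω[S⁄A] →ₗ[S] T := LinearMap.extendScalarsOfIsLocalization M S i₀
    let q : T →ₗ[S] Ω[S⁄A] := (ι ∘ₗ π).liftBaseChange S
    have hqi : (q ∘ₗ i).restrictScalars C = (g • LinearMap.id : Ω[S⁄A] →ₗ[C] Ω[S⁄A]) := by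
      refine IsLocalizedModule.ext M ι (IsLocalizedModule.map_units ι) (LinearMap.ext fun y => ?_)
      show q (i₀ (ι y)) = g • ι y
      rw [IsLocalizedModule.lift_apply]
      show q ((1 : S) ⊗ₜ[C] σ y) = _
      rw [LinearMap.liftBaseChange_tmul, one_smul, LinearMap.comp_apply, hσ, map_smul]
    obtain ⟨v, hv⟩ := hg
    refine Module.Projective.of_split ((↑v⁻¹ : S) • i) q (LinearMap.ext fun y => ?_)
    have h := LinearMap.congr_fun hqi y
    simp only [LinearMap.restrictScalars_apply, LinearMap.comp_apply, LinearMap.smul_apply,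
      LinearMap.id_apply, map_smul] at h ⊢
    rw [h, ← algebraMap_smul S g y, smul_smul, ← hv, Units.inv_mul, one_smul]
  · rw [subsingleton_iff_forall_eq 0]
    intro y
    let f := Algebra.H1Cotangent.map A A C S
    have : IsLocalizedModule M f := Algebra.H1Cotangent.isLocalizedModule A S M
    obtain ⟨⟨x, s⟩, hx⟩ := IsLocalizedModule.surj M f y
    have hgx : g • x = 0 := by
      obtain ⟨z, rfl⟩ := (Algebra.Extension.equivH1CotangentOfFormallySmooth P).surjective x
      rw [← map_smul, show g • z = 0 from Algebra.Extension.h1Cotangentι_ext _ _ ?_, map_zero]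
      rw [Algebra.Extension.H1Cotangent.val_smul]
      have h2 := LinearMap.congr_fun hr z.1
      rw [LinearMap.comp_apply, show P.cotangentComplex z.1 = 0 from z.2, map_zero] at h2
      exact h2.symm
    have h1 : g • f x = 0 := by rw [← map_smul, hgx, map_zero]
    rw [← algebraMap_smul S g (f x)] at h1
    have h3 : f x = 0 := (hg.smul_eq_zero).1 h1
    rw [h3] at hx
    exact ((IsLocalizedModule.map_units f s).smul_eq_zero (M := Algebra.H1Cotangent A S)).1 hx

include M in
/-- Formal smoothness of a localisation forces injectivity on residue fields. -/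
theorem injective_of_formallySmooth (P : Extension.{u} A C) [FormallySmooth A P.Ring]
    (K : Type u) [CommRing K] [Algebra C K] [Algebra S K] [IsScalarTower C S K] [FormallySmooth A S] :
    Function.Injective (P.cotangentComplex.lTensor K) := by
  have : Module.Flat C S := IsLocalization.flat S M
  let l := P.cotangentComplex
  have hinj : Function.Injective (l.baseChange S) := by
    refine (injective_iff_map_eq_zero _).2 fun x hx => ?_
    have hex := Module.Flat.lTensor_exact S (LinearMap.exact_subtype_ker_map l)
    obtain ⟨y, rfl⟩ := (hex x).1 hx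
    let e : S ⊗[C] (LinearMap.ker l) ≃ₗ[S] Algebra.H1Cotangent A S :=
      (Algebra.Extension.equivH1CotangentOfFormallySmooth P).baseChange C S ≪≫ₗ
        Algebra.tensorH1CotangentOfIsLocalization A S M
    have : Subsingleton (S ⊗[C] (LinearMap.ker l)) := e.toEquiv.subsingleton
    rw [Subsingleton.elim y 0, map_zero]
  have : FormallyEtale C S := FormallyEtale.of_isLocalization (Rₘ := S) M
  have : Module.Projective S (S ⊗[C] Ω[C⁄A]) :=
    Module.Projective.of_equiv (KaehlerDifferential.tensorKaehlerEquivOfFormallyEtale A C S).symm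
  have hex : Function.Exact (l.baseChange S) (P.toKaehler.baseChange S) :=
    lTensor_exact S P.exact_cotangentComplex_toKaehler P.toKaehler_surjective
  have hsurj : Function.Surjective (P.toKaehler.baseChange S) :=
    LinearMap.lTensor_surjective S P.toKaehler_surjective
  obtain ⟨ρ, hρ⟩ := ((hex.split_tfae'.out 0 1 rfl rfl).mp
    ⟨hinj, Module.projective_lifting_property _ _ hsurj⟩).2
  let Ψ : S ⊗[C] P.Cotangent →ₗ[C] K ⊗[C] P.Cotangent :=
    LinearMap.rTensor P.Cotangent (IsScalarTower.toAlgHom C S K).toLinearMap
  let r' : P.CotangentSpace →ₗ[C] K ⊗[C] P.Cotangent :=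
    Ψ ∘ₗ (ρ.restrictScalars C) ∘ₗ TensorProduct.mk C S P.CotangentSpace 1
  have hr' : ∀ m, r' (l m) = (1 : K) ⊗ₜ[C] m := fun m => by
    have h1 := LinearMap.congr_fun hρ ((1 : S) ⊗ₜ[C] m)
    rw [LinearMap.comp_apply, LinearMap.baseChange_tmul, LinearMap.id_apply] at h1
    show Ψ (ρ ((1 : S) ⊗ₜ[C] l m)) = _
    rw [h1]
    show (algebraMap S K) 1 ⊗ₜ[C] m = _
    rw [map_one]
  have hleft : ∀ x, r'.liftBaseChange K (l.lTensor K x) = x := fun x => by
    induction x using TensorProduct.induction_on with
    | zero => simp
    | add x y hx hy => rw [map_add, map_add, hx, hy]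
    | tmul a m =>
      rw [LinearMap.lTensor_tmul, LinearMap.liftBaseChange_tmul, hr', TensorProduct.smul_tmul', smul_eq_mul, mul_one]
  exact Function.LeftInverse.injective hleft

end Smooth

section Criterion

variable {A B C : Type u} [CommRing A] [CommRing B] [CommRing C] [Algebra A B] [Algebra B C] [Algebra A C]
  [IsScalarTower A B C] [Algebra.FormallySmooth A B] (hsurj : Function.Surjective (algebraMap B C))
  [Module.Finite B (RingHom.ker (algebraMap B C)).Cotangent]

include hsurj in
theorem exists_away_of_injective (p : Ideal C) [p.IsPrime]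
    (h : Function.Injective ((kerCotangentToTensor A B C).lTensor p.ResidueField)) :
    ∃ g : C, g ∉ p ∧ Algebra.FormallySmooth A (Localization.Away g) ∧
      ∀ (q : Ideal C) [q.IsPrime], g ∉ q → Algebra.FormallySmooth A (Localization.AtPrime q) := by
  let P := extOfSurjective (A := A) hsurj
  have : Module.Finite C P.Cotangent := finite_cotangent hsurj
  have : Algebra.FormallySmooth A P.Ring := ‹Algebra.FormallySmooth A B›
  obtain ⟨g, hg, r, hr⟩ := exists_retraction_smul P.cotangentComplex p ((injective_lTensor_iff hsurj p).1 h)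
  exact ⟨g, hg, formallySmooth_of_retraction (Localization.Away g) (Submonoid.powers g) P g
    (IsLocalization.Away.algebraMap_isUnit g) r hr, fun q _ hq =>
    formallySmooth_of_retraction (Localization.AtPrime q) q.primeCompl P g
      (IsLocalization.map_units (Localization.AtPrime q) (⟨g, hq⟩ : q.primeCompl)) r hr⟩

include hsurj in
theorem formallySmooth_atPrime_iff (p : Ideal C) [p.IsPrime] :
    Algebra.FormallySmooth A (Localization.AtPrime p) ↔
      Function.Injective ((kerCotangentToTensor A B C).lTensor p.ResidueField) := by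
  constructor
  · intro _
    let P := extOfSurjective (A := A) hsurj
    have : Algebra.FormallySmooth A P.Ring := ‹Algebra.FormallySmooth A B›
    exact (injective_lTensor_iff hsurj p).2
      (injective_of_formallySmooth (Localization.AtPrime p) p.primeCompl P p.ResidueField)
  · intro h
    obtain ⟨g, hg, -, hall⟩ := exists_away_of_injective hsurj p h
    exact hall p hg

include hsurj in
theorem formallySmooth_of_forall_maximal
    (h : ∀ (m : Ideal C) [m.IsMaximal], Function.Injective ((kerCotangentToTensor A B C).lTensor m.ResidueField)) :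
    Algebra.FormallySmooth A C := by
  let P := extOfSurjective (A := A) hsurj
  have : Module.Finite C P.Cotangent := finite_cotangent hsurj
  have : Algebra.FormallySmooth A P.Ring := ‹Algebra.FormallySmooth A B›
  let R : Ideal C :=
    { carrier := {g | ∃ r : P.CotangentSpace →ₗ[C] P.Cotangent, r ∘ₗ P.cotangentComplex = g • LinearMap.id}
      add_mem' := fun {a b} ha hb => by
        obtain ⟨r, hr⟩ := ha
        obtain ⟨r', hr'⟩ := hb
        exact ⟨r + r', by rw [LinearMap.add_comp, hr, hr', add_smul]⟩
      zero_mem' := ⟨0, by rw [LinearMap.zero_comp, zero_smul]⟩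
      smul_mem' := fun c a ha => by
        obtain ⟨r, hr⟩ := ha
        exact ⟨c • r, by rw [LinearMap.smul_comp, hr, smul_smul, smul_eq_mul]⟩ }
  have hR : R = ⊤ := by
    by_contra hne
    obtain ⟨m, hm, hle⟩ := Ideal.exists_le_maximal R hne
    obtain ⟨g, hg, r, hr⟩ := exists_retraction_smul P.cotangentComplex m ((injective_lTensor_iff hsurj m).1 (h m))
    exact hg (hle ⟨r, hr⟩)
  obtain ⟨r, hr⟩ := (Ideal.eq_top_iff_one R).1 hR
  have : IsLocalization (⊥ : Submonoid C) C := IsLocalization.self bot_le
  exact formallySmooth_of_retraction C (⊥ : Submonoid C) P 1 (by simp) r hr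

end Criterion

end JacFSLib
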